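import Cfsg.Agent.H603.AP.Height
import Cfsg.Agent.H248.K4.Nine

/-!
# S4933, box H1: the height lemma for a sum of two characters (helper567)

`P` an abelian Sylow `p`-subgroup, `Y ≠ Y'` irreducible, `Y` in the principal block, `R` a set of regular elements of `P`
(closed under powers prime to `|G|`) such that `Y + Y'` vanishes on the `p`-sections of the elements of `R`. If
`|N(P)| |P| < 2 p ^ 2 |C(P)| |R|` then `p` does not divide `Y 1`.

Proof: `p ^ 2 |R| ≤ ∑_R |Y x| ^ 2` (arithmetic-geometric mean), and on the sections of the elements of `R` the difference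
`Y - Y'` is `2 Y`, so that `4 ∑ |Y w| ^ 2 ≤ ∑ |Y w - Y' w| ^ 2 = 2 |G|` over these sections.
-/

set_option autoImplicit false
set_option linter.unusedSectionVars false

open scoped ComplexConjugate

namespace Cfsg.Agent.H567.HT

open Cfsg
open Cfsg.Agent.Blocks Cfsg.Agent.Blocks.Local Cfsg.Agent.Characters
open Cfsg.Agent.H674.XZ Cfsg.Agent.H508.XR
open Cfsg.Agent.H603.AP

universe u

variable {p : ℕ} [hp : Fact p.Prime] {M : Ideal AlgInt} {G : Type u} [Group G] [Finite G]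

open scoped Classical in
/-- **Lower bound** over a set of elements of `P`. -/
theorem lower_bound [Fintype G] (hM : IsPModular p M) {P : Sylow p G}
    (hab : ∀ x ∈ (P : Subgroup G), ∀ y ∈ (P : Subgroup G), x * y = y * x) {R : G → Prop}
    (hRP : ∀ x, R x → x ∈ (P : Subgroup G)) (hpow : ∀ x, R x → ∀ m : ℕ, m.Coprime (Nat.card G) → R (x ^ m))
    {χ : IrrCharacter G} (hχ : χ ∈ principalBlock M G) (hd : p ∣ charDegree (χ : G → ℂ)) :
    (p : ℝ) ^ 2 * (Finset.univ.filter fun x : G => R x).card ≤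
      ∑ x ∈ Finset.univ.filter (fun x : G => R x), ‖(χ : G → ℂ) x‖ ^ 2 := by
  have hp0 : (0 : ℝ) < p := by exact_mod_cast hp.out.pos
  have hiff : ∀ {x : G} {m : ℕ}, m.Coprime (Nat.card G) → (R (x ^ m) ↔ R x) := by
    intro x m hm
    refine ⟨fun h => ?_, fun h => hpow x h m hm⟩
    have h1 : (x ^ m) ^ (m ^ (Nat.totient (Nat.card G) - 1)) = x := by
      have h2 : 0 < Nat.totient (Nat.card G) := Nat.totient_pos.2 Nat.card_pos
      rw [← pow_mul, ← pow_succ', Nat.sub_add_cancel h2]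
      have h3 : m ^ Nat.totient (Nat.card G) ≡ 1 [MOD Nat.card G] := Nat.ModEq.pow_totient hm
      have h4 : x ^ (m ^ Nat.totient (Nat.card G)) = x ^ 1 := by
        rw [pow_eq_pow_iff_modEq]
        exact h3.of_dvd (orderOf_dvd_natCard x)
      rw [h4, pow_one]
    rw [← h1]
    exact hpow _ h _ (Nat.Coprime.pow_left _ hm)
  let f : G → ℝ := fun g => if R g then ‖(χ : G → ℂ) g / p‖ ^ 2 else 0
  have hinv : ∀ g, R g → g⁻¹ ∈ (P : Subgroup G) := fun g hg => (P : Subgroup G).inv_mem (hRP g hg)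
  have hf : ∀ g, ((f g : ℝ) : ℂ) = if R g then ((χ : G → ℂ) g / p) * ((χ : G → ℂ) g⁻¹ / p) else 0 := by
    intro g
    simp only [f]
    split_ifs
    · rw [Core.isCharacter_apply_inv (Core.isIrr_isCharacter χ.2)]
      have h1 : conj ((χ : G → ℂ) g) / (p : ℂ) = conj ((χ : G → ℂ) g / p) := by
        rw [map_div₀, map_natCast]
      rw [h1, Complex.mul_conj, Complex.normSq_eq_norm_sq]
    · simp
  have h1 := OddOrderCharacters.PF13.SumBound.card_le_sum_of_gal f (fun g => by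
      rw [hf]
      split_ifs with h
      · exact (div_isIntegral hab (hRP g h) hd).mul (div_isIntegral hab (hinv g h) hd)
      · exact isIntegral_zero) (fun σ => by
      obtain ⟨m, hm, h⟩ := GaloisBasic.exists_coprime_pow (σ : ℂ →+* ℂ) (n := Nat.card G) Nat.card_pos.ne'
      refine ⟨m, hm, fun g => ?_⟩
      have h2 : ∀ g, σ ((χ : G → ℂ) g) = (χ : G → ℂ) (g ^ m) := fun g =>
        GaloisBasic.map_apply_card σ (fun z hz => h z hz) (Core.isIrr_isCharacter χ.2) g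
      rw [hf, hf, hiff hm]
      split_ifs
      · rw [map_mul, map_div₀, map_div₀, h2, h2, map_natCast, inv_pow]
      · exact map_zero _) (Finset.univ.filter fun x : G => R x)
      (fun g hg m hm => by
        rw [Finset.mem_filter] at hg ⊢
        exact ⟨Finset.mem_univ _, hpow _ hg.2 m hm⟩) (fun g hg => by
        rw [Finset.mem_filter] at hg
        simp only [f]
        rw [if_pos hg.2]
        have h3 := val_ne_zero hM hab (hRP g hg.2) hχ
        have h4 : 0 < ‖(χ : G → ℂ) g / p‖ := norm_pos_iff.2 (div_ne_zero h3 (by exact_mod_cast hp.out.ne_zero))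
        positivity)
  have h2 : ∑ x ∈ Finset.univ.filter (fun x : G => R x), f x =
      (∑ x ∈ Finset.univ.filter (fun x : G => R x), ‖(χ : G → ℂ) x‖ ^ 2) / (p : ℝ) ^ 2 := by
    rw [Finset.sum_div]
    refine Finset.sum_congr rfl fun x hx => ?_
    rw [Finset.mem_filter] at hx
    simp only [f]
    rw [if_pos hx.2, norm_div, div_pow, Complex.norm_natCast]
  rw [h2, le_div_iff₀ (by positivity)] at h1
  linarith

/-- The norm of the difference of two irreducible characters. -/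
theorem norm_sub [Fintype G] {Y Y' : IrrCharacter G} (hne : Y ≠ Y') :
    ∑ w : G, ‖(Y : G → ℂ) w - (Y' : G → ℂ) w‖ ^ 2 = 2 * Nat.card G := by
  have hG : (Nat.card G : ℂ) ≠ 0 := by exact_mod_cast Nat.card_pos.ne'
  have hs : ∀ A B : IrrCharacter G, ∑ g : G, (A : G → ℂ) g * conj ((B : G → ℂ) g) =
      Nat.card G * classInner (A : G → ℂ) (B : G → ℂ) := by
    intro A B
    rw [Core.classInner_def, ← mul_assoc, mul_inv_cancel₀ hG, one_mul]
  have h11 := hs Y Y
  have h12 := hs Y Y'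
  have h21 := hs Y' Y
  have h22 := hs Y' Y'
  rw [Core.classInner_irr_self Y.2, mul_one] at h11
  rw [Core.classInner_irr_self Y'.2, mul_one] at h22
  have hne' : (Y : G → ℂ) ≠ (Y' : G → ℂ) := fun h => hne (Subtype.ext h)
  rw [Core.classInner_irr_ne Y.2 Y'.2 hne', mul_zero] at h12
  rw [Core.classInner_irr_ne Y'.2 Y.2 hne'.symm, mul_zero] at h21
  have h : ((∑ w : G, ‖(Y : G → ℂ) w - (Y' : G → ℂ) w‖ ^ 2 : ℝ) : ℂ) = 2 * Nat.card G := by
    rw [Complex.ofReal_sum]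
    have e : ∀ w : G, ((‖(Y : G → ℂ) w - (Y' : G → ℂ) w‖ ^ 2 : ℝ) : ℂ) =
        (Y : G → ℂ) w * conj ((Y : G → ℂ) w) - (Y : G → ℂ) w * conj ((Y' : G → ℂ) w) -
          (Y' : G → ℂ) w * conj ((Y : G → ℂ) w) + (Y' : G → ℂ) w * conj ((Y' : G → ℂ) w) := by
      intro w
      rw [← Complex.normSq_eq_norm_sq, ← Complex.mul_conj, map_sub]
      ring
    rw [Finset.sum_congr rfl fun w _ => e w, Finset.sum_add_distrib, Finset.sum_sub_distrib, Finset.sum_sub_distrib,
      h11, h12, h21, h22]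
    ring
  exact_mod_cast h

open scoped Classical in
/-- **Upper bound.** -/
theorem upper_bound [Fintype G] (hM : IsPModular p M) {P : Sylow p G}
    (hab : ∀ x ∈ (P : Subgroup G), ∀ y ∈ (P : Subgroup G), x * y = y * x) {R : G → Prop} (hReg : ∀ x, R x → Reg P x)
    {Y Y' : IrrCharacter G} (hne : Y ≠ Y') (hY : Y ∈ principalBlock M G)
    (hvan : ∀ w x : G, R x → IsConj x (pq p w) → (Y : G → ℂ) w + (Y' : G → ℂ) w = 0) :
    2 * ((Nat.card (Subgroup.centralizer ((P : Subgroup G) : Set G)) : ℝ) *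
      ∑ x ∈ Finset.univ.filter (fun x : G => R x), ‖(Y : G → ℂ) x‖ ^ 2) ≤
      Nat.card (Subgroup.normalizer ((P : Subgroup G) : Set G)) * Nat.card P := by
  have hG : (0 : ℝ) < Nat.card G := by exact_mod_cast Nat.card_pos
  have hP : (0 : ℝ) < Nat.card P := by exact_mod_cast Nat.card_pos
  have h1 : (Nat.card G : ℝ) * ∑ x ∈ Finset.univ.filter (fun x : G => R x), ‖(Y : G → ℂ) x‖ ^ 2 =
      Nat.card P * ∑ w : G, ((Finset.univ.filter fun x : G => R x ∧ IsConj x (pq p w)).card : ℝ) * ‖(Y : G → ℂ) w‖ ^ 2 := by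
    rw [Finset.mul_sum, Finset.sum_congr rfl fun x hx => reg_sum hM hab hY (hReg x (Finset.mem_filter.1 hx).2),
      ← Finset.mul_sum, Finset.sum_comm]
    congr 1
    refine Finset.sum_congr rfl fun w _ => ?_
    rw [← Finset.sum_filter, Finset.filter_filter, Finset.sum_const, nsmul_eq_mul]
  have hpt : ∀ w : G, 4 * ((Nat.card (Subgroup.centralizer ((P : Subgroup G) : Set G)) : ℝ) *
      (((Finset.univ.filter fun x : G => R x ∧ IsConj x (pq p w)).card : ℝ) * ‖(Y : G → ℂ) w‖ ^ 2)) ≤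
      Nat.card (Subgroup.normalizer ((P : Subgroup G) : Set G)) * ‖(Y : G → ℂ) w - (Y' : G → ℂ) w‖ ^ 2 := by
    intro w
    rcases (Finset.univ.filter fun x : G => R x ∧ IsConj x (pq p w)).eq_empty_or_nonempty with h0 | ⟨x, hx⟩
    · rw [h0, Finset.card_empty, Nat.cast_zero, zero_mul, mul_zero, mul_zero]
      positivity
    · rw [Finset.mem_filter] at hx
      have h2 := hvan w x hx.2.1 hx.2.2
      have h3 : (Y : G → ℂ) w - (Y' : G → ℂ) w = 2 * (Y : G → ℂ) w := by linear_combination -h2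
      rw [h3, norm_mul, mul_pow, Complex.norm_ofNat]
      have h4 : (Finset.univ.filter fun x : G => R x ∧ IsConj x (pq p w)).card ≤
          (Finset.univ.filter fun x : G => Reg P x ∧ IsConj x (pq p w)).card := by
        refine Finset.card_le_card fun y hy => ?_
        rw [Finset.mem_filter] at hy ⊢
        exact ⟨hy.1, hReg y hy.2.1, hy.2.2⟩
      have h5 := (Nat.mul_le_mul_right (Nat.card (Subgroup.centralizer ((P : Subgroup G) : Set G))) h4).trans
        (card_fus hab (pq p w))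
      have h6 : ((Finset.univ.filter fun x : G => R x ∧ IsConj x (pq p w)).card : ℝ) *
          (Nat.card (Subgroup.centralizer ((P : Subgroup G) : Set G)) : ℝ) ≤
          Nat.card (Subgroup.normalizer ((P : Subgroup G) : Set G)) := by exact_mod_cast h5
      have h7 : (0 : ℝ) ≤ ‖(Y : G → ℂ) w‖ ^ 2 := by positivity
      nlinarith [mul_le_mul_of_nonneg_right h6 h7]
  have h2 : 4 * ((Nat.card (Subgroup.centralizer ((P : Subgroup G) : Set G)) : ℝ) *
      ∑ w : G, ((Finset.univ.filter fun x : G => R x ∧ IsConj x (pq p w)).card : ℝ) * ‖(Y : G → ℂ) w‖ ^ 2) ≤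
      Nat.card (Subgroup.normalizer ((P : Subgroup G) : Set G)) * (2 * Nat.card G) := by
    rw [← norm_sub hne, Finset.mul_sum, Finset.mul_sum, Finset.mul_sum]
    exact Finset.sum_le_sum fun w _ => hpt w
  have h3 : (Nat.card G : ℝ) * (2 * ((Nat.card (Subgroup.centralizer ((P : Subgroup G) : Set G)) : ℝ) *
      ∑ x ∈ Finset.univ.filter (fun x : G => R x), ‖(Y : G → ℂ) x‖ ^ 2)) ≤
      (Nat.card G : ℝ) * (Nat.card (Subgroup.normalizer ((P : Subgroup G) : Set G)) * Nat.card P) := by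
    have h4 : (Nat.card G : ℝ) * (2 * ((Nat.card (Subgroup.centralizer ((P : Subgroup G) : Set G)) : ℝ) *
        ∑ x ∈ Finset.univ.filter (fun x : G => R x), ‖(Y : G → ℂ) x‖ ^ 2)) =
        2 * (Nat.card (Subgroup.centralizer ((P : Subgroup G) : Set G)) : ℝ) * ((Nat.card G : ℝ) *
          ∑ x ∈ Finset.univ.filter (fun x : G => R x), ‖(Y : G → ℂ) x‖ ^ 2) := by ring
    rw [h4, h1]
    have h5 := mul_le_mul_of_nonneg_left h2 hP.le
    linarith
  exact le_of_mul_le_mul_left h3 hG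

/-- **The height lemma.** -/
theorem not_dvd_of_pair (hM : IsPModular p M) (P : Sylow p G)
    (hab : ∀ x ∈ (P : Subgroup G), ∀ y ∈ (P : Subgroup G), x * y = y * x) (R : G → Prop) (hReg : ∀ x, R x → Reg P x)
    (hpow : ∀ x, R x → ∀ m : ℕ, m.Coprime (Nat.card G) → R (x ^ m))
    {Y Y' : IrrCharacter G} (hne : Y ≠ Y') (hY : Y ∈ principalBlock M G)
    (hvan : ∀ w x : G, R x → IsConj x (pq p w) → (Y : G → ℂ) w + (Y' : G → ℂ) w = 0)
    (h : Nat.card (Subgroup.normalizer ((P : Subgroup G) : Set G)) * Nat.card P <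
      2 * p ^ 2 * Nat.card (Subgroup.centralizer ((P : Subgroup G) : Set G)) * Nat.card {x : G // R x}) :
    ¬ p ∣ charDegree (Y : G → ℂ) := by
  classical
  have := Fintype.ofFinite G
  intro hd
  have h1 := lower_bound hM hab (fun x hx => (hReg x hx).1) hpow hY hd
  have h2 := upper_bound hM hab hReg hne hY hvan
  have hC : (0 : ℝ) < Nat.card (Subgroup.centralizer ((P : Subgroup G) : Set G)) := by exact_mod_cast Nat.card_pos
  have h3 := (mul_le_mul_of_nonneg_left (mul_le_mul_of_nonneg_left h1 hC.le) (by norm_num : (0 : ℝ) ≤ 2)).trans h2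
  have h4 : (Finset.univ.filter fun x : G => R x).card = Nat.card {x : G // R x} := by
    rw [Nat.card_eq_fintype_card, Fintype.card_subtype]
  rw [h4] at h3
  have h5 : 2 * p ^ 2 * Nat.card (Subgroup.centralizer ((P : Subgroup G) : Set G)) * Nat.card {x : G // R x} ≤
      Nat.card (Subgroup.normalizer ((P : Subgroup G) : Set G)) * Nat.card P := by
    have h6 : ((2 * p ^ 2 * Nat.card (Subgroup.centralizer ((P : Subgroup G) : Set G)) * Nat.card {x : G // R x} : ℕ) : ℝ) ≤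
        ((Nat.card (Subgroup.normalizer ((P : Subgroup G) : Set G)) * Nat.card P : ℕ) : ℝ) := by
      push_cast
      calc 2 * (p : ℝ) ^ 2 * (Nat.card (Subgroup.centralizer ((P : Subgroup G) : Set G)) : ℝ) * (Nat.card {x : G // R x} : ℝ)
          = 2 * ((Nat.card (Subgroup.centralizer ((P : Subgroup G) : Set G)) : ℝ) *
              ((p : ℝ) ^ 2 * (Nat.card {x : G // R x} : ℝ))) := by ring
        _ ≤ _ := h3
    exact_mod_cast h6
  omega

open scoped Classical in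
/-- **Upper bound**, with a bound for the fusion. -/
theorem upper_bound' [Fintype G] (hM : IsPModular p M) {P : Sylow p G}
    (hab : ∀ x ∈ (P : Subgroup G), ∀ y ∈ (P : Subgroup G), x * y = y * x) {R : G → Prop} (hReg : ∀ x, R x → Reg P x)
    {Y Y' : IrrCharacter G} (hne : Y ≠ Y') (hY : Y ∈ principalBlock M G)
    (hvan : ∀ w x : G, R x → IsConj x (pq p w) → (Y : G → ℂ) w + (Y' : G → ℂ) w = 0) {m : ℕ}
    (hm : ∀ z : G, Nat.card {x : G // R x ∧ IsConj x z} ≤ m) :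
    2 * (∑ x ∈ Finset.univ.filter (fun x : G => R x), ‖(Y : G → ℂ) x‖ ^ 2) ≤ m * Nat.card P := by
  have hG : (0 : ℝ) < Nat.card G := by exact_mod_cast Nat.card_pos
  have hP : (0 : ℝ) < Nat.card P := by exact_mod_cast Nat.card_pos
  have h1 : (Nat.card G : ℝ) * ∑ x ∈ Finset.univ.filter (fun x : G => R x), ‖(Y : G → ℂ) x‖ ^ 2 =
      Nat.card P * ∑ w : G, ((Finset.univ.filter fun x : G => R x ∧ IsConj x (pq p w)).card : ℝ) * ‖(Y : G → ℂ) w‖ ^ 2 := by
    rw [Finset.mul_sum, Finset.sum_congr rfl fun x hx => reg_sum hM hab hY (hReg x (Finset.mem_filter.1 hx).2),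
      ← Finset.mul_sum, Finset.sum_comm]
    congr 1
    refine Finset.sum_congr rfl fun w _ => ?_
    rw [← Finset.sum_filter, Finset.filter_filter, Finset.sum_const, nsmul_eq_mul]
  have hpt : ∀ w : G, 4 * (((Finset.univ.filter fun x : G => R x ∧ IsConj x (pq p w)).card : ℝ) * ‖(Y : G → ℂ) w‖ ^ 2) ≤
      m * ‖(Y : G → ℂ) w - (Y' : G → ℂ) w‖ ^ 2 := by
    intro w
    rcases (Finset.univ.filter fun x : G => R x ∧ IsConj x (pq p w)).eq_empty_or_nonempty with h0 | ⟨x, hx⟩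
    · rw [h0, Finset.card_empty, Nat.cast_zero, zero_mul, mul_zero]
      positivity
    · rw [Finset.mem_filter] at hx
      have h2 := hvan w x hx.2.1 hx.2.2
      have h3 : (Y : G → ℂ) w - (Y' : G → ℂ) w = 2 * (Y : G → ℂ) w := by linear_combination -h2
      rw [h3, norm_mul, mul_pow, Complex.norm_ofNat]
      have h4 := hm (pq p w)
      rw [Nat.card_eq_fintype_card, Fintype.card_subtype] at h4
      have h6 : ((Finset.univ.filter fun x : G => R x ∧ IsConj x (pq p w)).card : ℝ) ≤ m := by exact_mod_cast h4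
      have h7 : (0 : ℝ) ≤ ‖(Y : G → ℂ) w‖ ^ 2 := by positivity
      nlinarith [mul_le_mul_of_nonneg_right h6 h7]
  have h2 : 4 * ∑ w : G, ((Finset.univ.filter fun x : G => R x ∧ IsConj x (pq p w)).card : ℝ) * ‖(Y : G → ℂ) w‖ ^ 2 ≤
      m * (2 * Nat.card G) := by
    rw [← norm_sub hne, Finset.mul_sum, Finset.mul_sum]
    exact Finset.sum_le_sum fun w _ => hpt w
  have h3 : (Nat.card G : ℝ) * (2 * ∑ x ∈ Finset.univ.filter (fun x : G => R x), ‖(Y : G → ℂ) x‖ ^ 2) ≤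
      (Nat.card G : ℝ) * (m * Nat.card P) := by
    have h4 : (Nat.card G : ℝ) * (2 * ∑ x ∈ Finset.univ.filter (fun x : G => R x), ‖(Y : G → ℂ) x‖ ^ 2) =
        2 * ((Nat.card G : ℝ) * ∑ x ∈ Finset.univ.filter (fun x : G => R x), ‖(Y : G → ℂ) x‖ ^ 2) := by ring
    rw [h4, h1]
    have h5 := mul_le_mul_of_nonneg_left h2 hP.le
    linarith
  exact le_of_mul_le_mul_left h3 hG

/-- **The height lemma**, with a bound for the fusion of the elements of `R`. -/
theorem not_dvd_of_fus (hM : IsPModular p M) (P : Sylow p G)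
    (hab : ∀ x ∈ (P : Subgroup G), ∀ y ∈ (P : Subgroup G), x * y = y * x) (R : G → Prop) (hRP : ∀ x, R x → x ∈ (P : Subgroup G))
    (hcen : ∀ x, R x → Subgroup.centralizer ({x} : Set G) ≤ Subgroup.centralizer ((P : Subgroup G) : Set G))
    (hpow : ∀ x, R x → ∀ m : ℕ, m.Coprime (Nat.card G) → R (x ^ m))
    {Y Y' : IrrCharacter G} (hne : Y ≠ Y') (hY : Y ∈ principalBlock M G)
    (hvan : ∀ w x : G, R x → IsConj x (pq p w) → (Y : G → ℂ) w + (Y' : G → ℂ) w = 0) {m : ℕ}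
    (hm : ∀ z : G, Nat.card {x : G // R x ∧ IsConj x z} ≤ m)
    (h : m * Nat.card P < 2 * p ^ 2 * Nat.card {x : G // R x}) :
    ¬ p ∣ charDegree (Y : G → ℂ) := by
  classical
  have := Fintype.ofFinite G
  intro hd
  have hReg : ∀ x, R x → Reg P x := fun x hx => ⟨hRP x hx, fun g _ hg =>
    hcen x hx (Subgroup.mem_centralizer_singleton_iff.2 hg)⟩
  have h1 := lower_bound hM hab hRP hpow hY hd
  have h2 := upper_bound' hM hab hReg hne hY hvan hm
  have h3 := (mul_le_mul_of_nonneg_left h1 (by norm_num : (0 : ℝ) ≤ 2)).trans h2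
  have h4 : (Finset.univ.filter fun x : G => R x).card = Nat.card {x : G // R x} := by
    rw [Nat.card_eq_fintype_card, Fintype.card_subtype]
  rw [h4] at h3
  have h5 : 2 * p ^ 2 * Nat.card {x : G // R x} ≤ m * Nat.card P := by
    have h6 : ((2 * p ^ 2 * Nat.card {x : G // R x} : ℕ) : ℝ) ≤ ((m * Nat.card P : ℕ) : ℝ) := by
      push_cast
      calc 2 * (p : ℝ) ^ 2 * (Nat.card {x : G // R x} : ℝ) = 2 * ((p : ℝ) ^ 2 * (Nat.card {x : G // R x} : ℝ)) := by ring
        _ ≤ _ := h3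
    exact_mod_cast h6
  omega

/-- The numbers of the weight two torus. -/
theorem arith {p c a : ℕ} (hc : 0 < c) (hcp : 2 * c ≤ p - 1) (ha : 2 ≤ a) :
    8 * c ^ 2 * (p ^ a) ^ 2 < 2 * p ^ 2 * ((p ^ a - 1) * (p ^ a - 1 - 2 * c)) := by
  have hp3 : 3 ≤ p := by omega
  obtain ⟨b, rfl⟩ : ∃ b, a = b + 2 := ⟨a - 2, by omega⟩
  set N := p ^ (b + 1) with hN
  have hN3 : 3 ≤ N := by
    calc 3 ≤ p := hp3
      _ = p ^ 1 := (pow_one p).symm
      _ ≤ p ^ (b + 1) := Nat.pow_le_pow_right (by omega) (by omega)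
  have hpa : p ^ (b + 2) = p * N := by rw [hN]; ring
  rw [hpa]
  obtain ⟨d, hd⟩ : ∃ d, p = d + 1 := ⟨p - 1, by omega⟩
  have h2 : 2 * c ≤ d := by omega
  have hd2 : 2 ≤ d := by omega
  -- `p N - 1 - 2 c ≥ p N - p = p (N - 1)`
  obtain ⟨n, hn⟩ : ∃ n, N = n + 1 := ⟨N - 1, by omega⟩
  rw [hn, hd]
  have h3 : (d + 1) * n ≤ (d + 1) * (n + 1) - 1 - 2 * c := by
    have : (d + 1) * (n + 1) = (d + 1) * n + d + 1 := by ring
    omega
  have h4 : (d + 1) * (n + 1) - 1 = (d + 1) * n + d := by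
    have : (d + 1) * (n + 1) = (d + 1) * n + d + 1 := by ring
    omega
  have h5 : 8 * c ^ 2 ≤ 2 * d ^ 2 := by nlinarith
  have hNp : p ≤ N := by
    calc p = p ^ 1 := (pow_one p).symm
      _ ≤ p ^ (b + 1) := Nat.pow_le_pow_right (by omega) (by omega)
  obtain ⟨e, he⟩ : ∃ e, n = d + e := ⟨n - d, by omega⟩
  have h6 : d ^ 2 * (n + 1) ^ 2 < ((d + 1) * n + d) * ((d + 1) * n) := by
    rw [he]
    have hd0 : 0 < d := by omega
    have : ((d + 1) * (d + e) + d) * ((d + 1) * (d + e)) = d ^ 2 * (d + e + 1) ^ 2 +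
        (d ^ 3 + d ^ 2 + 3 * d ^ 2 * e + 3 * d * e + 2 * d * e ^ 2 + e ^ 2) := by ring
    rw [this]
    have : 0 < d ^ 3 := by positivity
    omega
  calc 8 * c ^ 2 * ((d + 1) * (n + 1)) ^ 2 ≤ 2 * d ^ 2 * ((d + 1) * (n + 1)) ^ 2 := Nat.mul_le_mul_right _ h5
    _ = 2 * (d + 1) ^ 2 * (d ^ 2 * (n + 1) ^ 2) := by ring
    _ < 2 * (d + 1) ^ 2 * (((d + 1) * n + d) * ((d + 1) * n)) := by
        apply Nat.mul_lt_mul_of_pos_left h6
        positivity
    _ ≤ 2 * (d + 1) ^ 2 * (((d + 1) * (n + 1) - 1) * ((d + 1) * (n + 1) - 1 - 2 * c)) := by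
        rw [h4]
        rw [h4] at h3
        exact Nat.mul_le_mul_left _ (Nat.mul_le_mul_left _ h3)

/-! ### the form of the plan (helper47) -/

/-- members of the principal block are constant on the section of `x ∈ P` if `C(x)` has a normal `p`-complement -/
theorem const_section' (hM : IsPModular p M) {P : Sylow p G} {x : G} (hx : x ∈ (P : Subgroup G)) {χ : IrrCharacter G}
    (hχ : χ ∈ principalBlock M G) {O : Subgroup G} (h1 : ∀ n ∈ O, Commute x n) (h2 : ∀ c, Commute x c → ∀ n ∈ O, c * n * c⁻¹ ∈ O)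
    (h3 : ¬ p ∣ Nat.card O) {v : G} (hv : v ∈ O) : (χ : G → ℂ) (x * v) = (χ : G → ℂ) x := by
  have := Fintype.ofFinite G
  have := Fintype.ofFinite O
  obtain ⟨n, ρ, hρ, hχρ⟩ := χ.2
  have hB : ∀ g : G, MemLocalIdeal M (((Subgroup.centralizer ({g} : Set G)).index : ℂ) -
      ((Subgroup.centralizer ({g} : Set G)).index : ℂ) * ρ.character g / ρ.character 1) := by
    intro g
    have h4 := hχ g
    unfold centralChar at h4
    rw [mul_one, div_one, ← hχρ] at h4
    exact h4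
  have hu : ∃ k : ℕ, orderOf x = p ^ k := by
    obtain ⟨k, hk⟩ := IsPGroup.iff_orderOf.1 P.2 ⟨x, hx⟩
    exact ⟨k, by rw [← hk, Subgroup.orderOf_mk]⟩
  have key : ∀ v ∈ O, ρ.character (x * v) = (Nat.card O : ℂ)⁻¹ * ∑ n : O, ρ.character (x * n) := by
    intro v hv
    rw [PrincipalConst.main hM ρ hρ hB hu O h1 h2 ((Nat.Prime.coprime_iff_not_dvd hp.out).2 h3).symm hv]
    congr 1
    refine Fintype.sum_equiv (Equiv.mulLeft (⟨v, hv⟩ : O)) _ _ fun n => ?_
    rw [Equiv.coe_mulLeft, Subgroup.coe_mul, mul_assoc]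
  rw [← hχρ, key v hv]
  have h5 := key 1 O.one_mem
  rw [mul_one] at h5
  exact h5.symm

open scoped Classical in
/-- one element -/
theorem reg_sum' [Fintype G] (hM : IsPModular p M) {P : Sylow p G}
    {χ : IrrCharacter G} (hχ : χ ∈ principalBlock M G) {x : G} (hx : x ∈ (P : Subgroup G)) {O : Subgroup G}
    (h1 : ∀ n ∈ O, Commute x n) (h2 : ∀ c, Commute x c → ∀ n ∈ O, c * n * c⁻¹ ∈ O) (h3 : ¬ p ∣ Nat.card O)
    (h4 : Nat.card O * Nat.card P = Nat.card (Subgroup.centralizer ({x} : Set G)))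
    (h5 : ∀ y, Commute x y → ¬ p ∣ orderOf y → y ∈ O) :
    (Nat.card G : ℝ) * ‖(χ : G → ℂ) x‖ ^ 2 =
      Nat.card P * ∑ w : G, if IsConj x (pq p w) then ‖(χ : G → ℂ) w‖ ^ 2 else 0 := by
  have hu : ∃ k : ℕ, orderOf x = p ^ k := by
    obtain ⟨k, hk⟩ := IsPGroup.iff_orderOf.1 P.2 ⟨x, hx⟩
    exact ⟨k, by rw [← hk, Subgroup.orderOf_mk]⟩
  have hcl := Core.isIrr_isClassFunction χ.2
  have h6 := double_count (p := p) (F := fun g => ‖(χ : G → ℂ) g‖ ^ 2) (fun g c => by rw [hcl g c]) x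
  have h7 : ∑ v ∈ Finset.univ.filter (fun v : G => pq p v = x), ‖(χ : G → ℂ) v‖ ^ 2 =
      Nat.card O * ‖(χ : G → ℂ) x‖ ^ 2 := by
    rw [← card_section hu h1 h3 h5, ← nsmul_eq_mul, ← Finset.sum_const]
    refine Finset.sum_congr rfl fun v hv => ?_
    rw [Finset.mem_filter] at hv
    obtain ⟨y, hy1, hy2, -, hy3⟩ := pq_spec (p := p) v
    rw [hv.2] at hy1 hy2
    rw [← hy1, const_section' hM hx hχ h1 h2 h3 (h5 y hy2 hy3)]
  have h8 : ∀ w : G, ‖(χ : G → ℂ) w‖ ^ 2 * ((Finset.univ.filter fun g : G => g⁻¹ * pq p w * g = x).card : ℝ) =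
      (Nat.card O : ℝ) * (Nat.card P * if IsConj x (pq p w) then ‖(χ : G → ℂ) w‖ ^ 2 else 0) := by
    intro w
    rw [card_conj, ← h4]
    split_ifs
    · push_cast
      ring
    · simp
  have hO : (Nat.card O : ℝ) ≠ 0 := by exact_mod_cast Nat.card_pos.ne'
  have h9 : (Nat.card O : ℝ) * ((Nat.card G : ℝ) * ‖(χ : G → ℂ) x‖ ^ 2) = (Nat.card O : ℝ) *
      (Nat.card P * ∑ w : G, if IsConj x (pq p w) then ‖(χ : G → ℂ) w‖ ^ 2 else 0) := by
    rw [h7, Finset.sum_congr rfl fun w _ => h8 w, ← Finset.mul_sum, ← Finset.mul_sum] at h6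
    rw [← h6]
    ring
  exact mul_left_cancel₀ hO h9

/-- an element of `C(x)` of order prime to `p` lies in the normal `p`-complement -/
theorem mem_compl {P : Sylow p G} {x : G} {K : Subgroup G} (h1 : ∀ k ∈ K, x * k = k * x)
    (h2 : ∀ g, x * g = g * x → ∀ k ∈ K, g * k * g⁻¹ ∈ K)
    (h4 : Nat.card K * Nat.card P = Nat.card (Subgroup.centralizer ({x} : Set G))) {y : G} (hy : Commute x y)
    (hyp : ¬ p ∣ orderOf y) : y ∈ K := by
  set C := Subgroup.centralizer ({x} : Set G) with hC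
  have hmem : ∀ g : G, x * g = g * x → g ∈ C := fun g hg => Subgroup.mem_centralizer_singleton_iff.2 hg.symm
  have hcom : ∀ g ∈ C, x * g = g * x := fun g hg => (Subgroup.mem_centralizer_singleton_iff.1 hg).symm
  have hKC : K ≤ C := fun k hk => hmem k (h1 k hk)
  have hN : (K.subgroupOf C).Normal := by
    refine ⟨fun n hn g => ?_⟩
    rw [Subgroup.mem_subgroupOf] at hn ⊢
    exact h2 g (hcom g g.2) n hn
  have hidx : (K.subgroupOf C).index = Nat.card P := by
    have h5 := (K.subgroupOf C).card_mul_index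
    have h6 : Nat.card (K.subgroupOf C) = Nat.card K := Nat.card_congr (Subgroup.subgroupOfEquivOfLe hKC).toEquiv
    rw [h6, ← h4] at h5
    exact Nat.eq_of_mul_eq_mul_left Nat.card_pos h5
  obtain ⟨n, hn⟩ := IsPGroup.iff_card.1 P.2
  have h7 : ((⟨y, hmem y hy.eq⟩ : C) ^ (p ^ n)) ∈ K.subgroupOf C := by
    have := (K.subgroupOf C).pow_index_mem (⟨y, hmem y hy.eq⟩ : C)
    rw [hidx, hn] at this
    exact this
  rw [Subgroup.mem_subgroupOf] at h7
  have h8 : y ^ (p ^ n) ∈ K := h7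
  have h9 : (orderOf y).Coprime (p ^ n) :=
    (Nat.Coprime.pow_left _ ((Nat.Prime.coprime_iff_not_dvd hp.out).2 hyp)).symm
  obtain ⟨j, hj⟩ := exists_pow_eq_self_of_coprime (x := y) (n := p ^ n) h9.symm
  rw [← hj]
  exact K.pow_mem h8 j

/-- **H1, the height lemma** (statement of `tools/plans/S4933_TH_stubs.lean.txt`). -/
theorem height_lemma {G : Type u} [Group G] [Fintype G] (p : ℕ) [Fact p.Prime] (hp2 : p ≠ 2) {M : Ideal AlgInt}
    (hM : IsPModular p M) (P : Sylow p G) {a c : ℕ} (ha : 0 < a) (hc0 : 0 < c) (hc : 2 * c ≤ p - 1)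
    (hPab : ∀ x ∈ (P : Subgroup G), ∀ y ∈ (P : Subgroup G), x * y = y * x) (hPc : Nat.card P = p ^ (2 * a))
    (E : Set G) (hEP : ∀ x ∈ E, x ∈ (P : Subgroup G)) (hEcard : (p ^ a - 1) * (p ^ a - 1 - 2 * c) ≤ Nat.card E)
    (hEpow : ∀ x ∈ E, ∀ k : ℕ, ¬ p ∣ k → x ^ k ∈ E)
    (hEcl : ∀ x ∈ E, Nat.card {x' : G | x' ∈ E ∧ IsConj x x'} ≤ 8 * c ^ 2)
    (hEC : ∀ x ∈ E, ∃ K : Subgroup G, ¬ p ∣ Nat.card K ∧ (∀ k ∈ K, x * k = k * x) ∧
      (∀ g, x * g = g * x → ∀ k ∈ K, g * k * g⁻¹ ∈ K) ∧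
      Nat.card K * Nat.card P = Nat.card (Subgroup.centralizer ({x} : Set G)))
    (Y Y' : IrrCharacter G) (hY : Y ∈ principalBlock M G) (hne : Y ≠ Y')
    (hv : ∀ x ∈ E, ∀ s : G, x * s = s * x → ¬ p ∣ orderOf s → (Y : G → ℂ) (x * s) + (Y' : G → ℂ) (x * s) = 0) :
    ¬ p ∣ charDegree (Y : G → ℂ) := by
  classical
  rcases Nat.lt_or_ge a 2 with ha1 | ha2
  · have ha' : a = 1 := by omega
    subst ha'
    exact Cfsg.Agent.H248.K4.not_dvd_degree hM P (by rw [hPc]) hY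
  intro hd
  have hpP : p ∣ Nat.card G := by
    have h1 : p ∣ Nat.card P := by
      rw [hPc]
      exact dvd_pow_self p (by omega)
    exact h1.trans (Subgroup.card_subgroup_dvd_card _)
  have hpow : ∀ x, x ∈ E → ∀ m : ℕ, m.Coprime (Nat.card G) → x ^ m ∈ E := by
    intro x hx m hm
    refine hEpow x hx m fun h => ?_
    have h1 := Nat.dvd_gcd h hpP
    rw [hm.gcd_eq_one] at h1
    exact (Fact.out : p.Prime).one_lt.ne' (Nat.dvd_one.1 h1)
  have hG : (0 : ℝ) < Nat.card G := by exact_mod_cast Nat.card_pos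
  have hPpos : (0 : ℝ) < Nat.card P := by exact_mod_cast Nat.card_pos
  have hvan : ∀ w x : G, x ∈ E → IsConj x (pq p w) → (Y : G → ℂ) w + (Y' : G → ℂ) w = 0 := by
    intro w x hx hc
    obtain ⟨g, hg⟩ := isConj_iff.1 hc
    obtain ⟨s, hs1, hs2, -, hs3⟩ := pq_spec (p := p) w
    have h1 : g⁻¹ * w * g = x * (g⁻¹ * s * g) := by
      rw [← hs1, ← hg]
      group
    have h2 : x * (g⁻¹ * s * g) = (g⁻¹ * s * g) * x := by
      have h3 : x = g⁻¹ * pq p w * g := by rw [← hg]; group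
      rw [h3]
      calc g⁻¹ * pq p w * g * (g⁻¹ * s * g) = g⁻¹ * (pq p w * s) * g := by group
        _ = g⁻¹ * (s * pq p w) * g := by rw [hs2.eq]
        _ = _ := by group
    have h4 : ¬ p ∣ orderOf (g⁻¹ * s * g) := by
      have h5 : orderOf (g⁻¹ * s * g) = orderOf s := by
        have h6 := orderOf_injective (MulAut.conj g⁻¹).toMonoidHom (MulAut.conj g⁻¹).injective s
        have h7 : (MulAut.conj g⁻¹).toMonoidHom s = g⁻¹ * s * g := by
          change g⁻¹ * s * g⁻¹⁻¹ = _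
          rw [inv_inv]
        rw [h7] at h6
        exact h6
      rwa [h5]
    have h5 := hv x hx _ h2 h4
    rw [← h1] at h5
    have h6 : ∀ χ : IrrCharacter G, (χ : G → ℂ) (g⁻¹ * w * g) = (χ : G → ℂ) w := by
      intro χ
      have h7 := Core.isIrr_isClassFunction χ.2 w g⁻¹
      rwa [inv_inv] at h7
    rwa [h6, h6] at h5
  have hcard : ∀ z : G, Nat.card {x : G // x ∈ E ∧ IsConj x z} ≤ 8 * c ^ 2 := by
    intro z
    by_cases hz : ∃ x, x ∈ E ∧ IsConj x z
    · obtain ⟨x, hx, hxz⟩ := hz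
      refine (Nat.card_le_card_of_injective (fun y : {x : G // x ∈ E ∧ IsConj x z} =>
        (⟨y.1, y.2.1, hxz.trans y.2.2.symm⟩ : {x' : G | x' ∈ E ∧ IsConj x x'})) ?_).trans (hEcl x hx)
      intro y y' h
      exact Subtype.ext (congrArg (fun t => (t : {x' : G | x' ∈ E ∧ IsConj x x'}).1) h)
    · have : IsEmpty {x : G // x ∈ E ∧ IsConj x z} := ⟨fun y => hz ⟨y.1, y.2⟩⟩
      rw [Nat.card_of_isEmpty]
      exact Nat.zero_le _
  have h1 : (Nat.card G : ℝ) * ∑ x ∈ Finset.univ.filter (fun x : G => x ∈ E), ‖(Y : G → ℂ) x‖ ^ 2 =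
      Nat.card P * ∑ w : G, ((Finset.univ.filter fun x : G => x ∈ E ∧ IsConj x (pq p w)).card : ℝ) * ‖(Y : G → ℂ) w‖ ^ 2 := by
    have h0 : ∀ x ∈ E, (Nat.card G : ℝ) * ‖(Y : G → ℂ) x‖ ^ 2 =
        Nat.card P * ∑ w : G, if IsConj x (pq p w) then ‖(Y : G → ℂ) w‖ ^ 2 else 0 := by
      intro x hx
      obtain ⟨K, hK1, hK2, hK3, hK4⟩ := hEC x hx
      exact reg_sum' hM hY (hEP x hx) (fun n hn => hK2 n hn) (fun g hg n hn => hK3 g hg n hn) hK1 hK4
        (fun y hy hyp => mem_compl hK2 hK3 hK4 hy hyp)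
    rw [Finset.mul_sum, Finset.sum_congr rfl fun x hx => h0 x (Finset.mem_filter.1 hx).2,
      ← Finset.mul_sum, Finset.sum_comm]
    congr 1
    refine Finset.sum_congr rfl fun w _ => ?_
    rw [← Finset.sum_filter, Finset.filter_filter, Finset.sum_const, nsmul_eq_mul]
  have hpt : ∀ w : G, 4 * (((Finset.univ.filter fun x : G => x ∈ E ∧ IsConj x (pq p w)).card : ℝ) * ‖(Y : G → ℂ) w‖ ^ 2) ≤
      ((8 * c ^ 2 : ℕ) : ℝ) * ‖(Y : G → ℂ) w - (Y' : G → ℂ) w‖ ^ 2 := by
    intro w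
    rcases (Finset.univ.filter fun x : G => x ∈ E ∧ IsConj x (pq p w)).eq_empty_or_nonempty with h0 | ⟨x, hx⟩
    · rw [h0, Finset.card_empty, Nat.cast_zero, zero_mul, mul_zero]
      positivity
    · rw [Finset.mem_filter] at hx
      have h2 := hvan w x hx.2.1 hx.2.2
      have h3 : (Y : G → ℂ) w - (Y' : G → ℂ) w = 2 * (Y : G → ℂ) w := by linear_combination -h2
      rw [h3, norm_mul, mul_pow, Complex.norm_ofNat]
      have h4 := hcard (pq p w)
      rw [Nat.card_eq_fintype_card, Fintype.card_subtype] at h4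
      have h6 : ((Finset.univ.filter fun x : G => x ∈ E ∧ IsConj x (pq p w)).card : ℝ) ≤ ((8 * c ^ 2 : ℕ) : ℝ) := by
        exact_mod_cast h4
      have h7 : (0 : ℝ) ≤ ‖(Y : G → ℂ) w‖ ^ 2 := by positivity
      nlinarith [mul_le_mul_of_nonneg_right h6 h7]
  have h2 : 4 * ∑ w : G, ((Finset.univ.filter fun x : G => x ∈ E ∧ IsConj x (pq p w)).card : ℝ) * ‖(Y : G → ℂ) w‖ ^ 2 ≤
      ((8 * c ^ 2 : ℕ) : ℝ) * (2 * Nat.card G) := by
    rw [← norm_sub hne, Finset.mul_sum, Finset.mul_sum]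
    exact Finset.sum_le_sum fun w _ => hpt w
  have h3 : 2 * ∑ x ∈ Finset.univ.filter (fun x : G => x ∈ E), ‖(Y : G → ℂ) x‖ ^ 2 ≤
      ((8 * c ^ 2 : ℕ) : ℝ) * Nat.card P := by
    have h3' : (Nat.card G : ℝ) * (2 * ∑ x ∈ Finset.univ.filter (fun x : G => x ∈ E), ‖(Y : G → ℂ) x‖ ^ 2) ≤
        (Nat.card G : ℝ) * (((8 * c ^ 2 : ℕ) : ℝ) * Nat.card P) := by
      have h4 : (Nat.card G : ℝ) * (2 * ∑ x ∈ Finset.univ.filter (fun x : G => x ∈ E), ‖(Y : G → ℂ) x‖ ^ 2) =
          2 * ((Nat.card G : ℝ) * ∑ x ∈ Finset.univ.filter (fun x : G => x ∈ E), ‖(Y : G → ℂ) x‖ ^ 2) := by ring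
      rw [h4, h1]
      have h5 := mul_le_mul_of_nonneg_left h2 hPpos.le
      linarith
    exact le_of_mul_le_mul_left h3' hG
  have h4 := (mul_le_mul_of_nonneg_left (lower_bound hM hPab (R := fun x => x ∈ E) hEP hpow hY hd)
    (by norm_num : (0 : ℝ) ≤ 2)).trans h3
  have h5 : (Finset.univ.filter fun x : G => x ∈ E).card = Nat.card E := by
    rw [Nat.card_eq_fintype_card, ← Fintype.card_coe]
    exact Fintype.card_congr (Equiv.subtypeEquivRight fun x => by simp)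
  have h6 : 2 * p ^ 2 * Nat.card E ≤ 8 * c ^ 2 * Nat.card P := by
    rw [h5] at h4
    have h7 : ((2 * p ^ 2 * Nat.card E : ℕ) : ℝ) ≤ ((8 * c ^ 2 * Nat.card P : ℕ) : ℝ) := by
      push_cast
      push_cast at h4
      linarith
    exact_mod_cast h7
  have h7 := arith hc0 hc ha2
  have h8 : (p ^ a) ^ 2 = Nat.card P := by rw [hPc, ← pow_mul, mul_comm]
  rw [h8] at h7
  have h9 := Nat.mul_le_mul_left (2 * p ^ 2) hEcard
  omega

end Cfsg.Agent.H567.HT
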