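import Cfsg.Agent.H920.HT.RegA
import Cfsg.Agent.H477.HC.Main
import Cfsg.Agent.H79.HT.NoTS
import Cfsg.Agent.H567.HT.Height

/-!
# S4933, box H2, the end (helper567)

`not_dvd_of_two_aux`: for the isometry group of a form of dimension `< 6c`, `2c = ord_p(q)`, with Sylow `p`-subgroups of order
`p^(2a)`, `p^(a+1) ∤ q^c + 1`: if `Y ∈ B0`, `Y ≠ Y'` and `Y + Y'` vanishes on all elements fixing no totally singular `2c`-space,
then `p ∤ Y(1)`.
-/

set_option autoImplicit false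

namespace Cfsg.Agent.H567.HT

open Module Polynomial Cfsg.Agent.H324.AP Cfsg.Agent.H477.HC Cfsg.Agent.H920.HT Cfsg.Agent.Blocks Cfsg.Agent.H603.AP

universe u v

variable {K : Type u} [Field K] {V : Type v} [AddCommGroup V] [Module K V] {F : CForm K V}

/-- powers of regular elements -/
theorem regE_pow {P : Subgroup (V ≃ₗ[K] V)} {x : V ≃ₗ[K] V} (hx : x ∈ RegE P) {m k : ℕ} (h : (x ^ m) ^ k = x) :
    x ^ m ∈ RegE P := by
  refine ⟨P.pow_mem hx.1 m, fun y hy => ?_⟩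
  obtain ⟨f, hf⟩ := hx.2 y hy
  refine ⟨f.comp (X ^ k), ?_⟩
  have h1 : toE x = toE ((x ^ m) ^ k) := by rw [h]
  have h2 : toE ((x ^ m) ^ k) = toE (x ^ m) ^ k := map_pow (LinearEquiv.automorphismGroup.toLinearMapMonoidHom) (x ^ m) k
  rw [hf, aeval_comp, map_pow, aeval_X, ← h2, ← h1]

/-- the centralizer of a regular element centralizes `P` -/
theorem regE_comm {P : Subgroup (V ≃ₗ[K] V)} {x : V ≃ₗ[K] V} (hx : x ∈ RegE P) {g : V ≃ₗ[K] V} (hg : g * x = x * g)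
    {y : V ≃ₗ[K] V} (hy : y ∈ P) : g * y = y * g := by
  obtain ⟨f, hf⟩ := hx.2 y hy
  have h1 : Commute (toE g) (toE x) := by
    have : toE (g * x) = toE (x * g) := by rw [hg]
    exact this
  have h2 : Commute (toE g) (aeval (toE x) f) := by
    have h3 : aeval (toE x) f ∈ Algebra.adjoin K {toE x} := aeval_mem_adjoin_singleton K (toE x)
    exact (Algebra.commute_of_mem_adjoin_singleton_of_commute h3 h1)
  rw [← hf] at h2
  ext v
  exact congrArg (fun T : Module.End K V => T v) h2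

/-- invariant subspaces of a regular element -/
theorem regE_inv {P : Subgroup (V ≃ₗ[K] V)} {x : V ≃ₗ[K] V} (hx : x ∈ RegE P) {W : Submodule K V}
    (hW : ∀ w ∈ W, x w ∈ W) {y : V ≃ₗ[K] V} (hy : y ∈ P) {w : V} (hw : w ∈ W) : y w ∈ W := by
  obtain ⟨f, hf⟩ := hx.2 y hy
  have h1 := aeval_mem (z := x) hW f hw
  rw [← hf] at h1
  exact h1

theorem not_dvd_of_two_aux [Finite K] [Finite V] [FiniteDimensional K V] {p a c : ℕ} [hp : Fact p.Prime] (hp2 : p ≠ 2)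
    (hpK : (p : K) ≠ 0) (hc0 : 0 < c) (ha0 : 0 < a) (ho : orderOf ((Nat.card K : ℕ) : ZMod p) = 2 * c)
    (ha : ¬ p ^ (a + 1) ∣ Nat.card K ^ c + 1) (hdim : finrank K V < 6 * c) (P : Sylow p F.iso)
    (hPc : Nat.card P = p ^ (2 * a))
    (hcnt : ∀ D, TwoB p a c (splF F) ((P : Subgroup F.iso).map F.iso.subtype) D →
      (p ^ a - 1) * (p ^ a - 1 - 2 * c) ≤ Nat.card (RegE ((P : Subgroup F.iso).map F.iso.subtype)))
    (hfus : ∀ D, TwoB p a c (splF F) ((P : Subgroup F.iso).map F.iso.subtype) D →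
      ∀ x ∈ RegE ((P : Subgroup F.iso).map F.iso.subtype),
      Nat.card {x' : V ≃ₗ[K] V // x' ∈ RegE ((P : Subgroup F.iso).map F.iso.subtype) ∧ ∃ g ∈ F.iso, g * x * g⁻¹ = x'} ≤
        8 * c ^ 2)
    {M : Ideal AlgInt} (hM : IsPModular p M) {Y Y' : IrrCharacter F.iso} (hY : Y ∈ principalBlock M F.iso) (hne : Y ≠ Y')
    (hv : ∀ g : F.iso, (∀ W ∈ F.Om (2 * c), W.map ((g : V ≃ₗ[K] V) : V →ₗ[K] V) ≠ W) →
      (Y : F.iso → ℂ) g + (Y' : F.iso → ℂ) g = 0) :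
    ¬ p ∣ charDegree (Y : F.iso → ℂ) := by
  classical
  have hfin : Finite (V ≃ₗ[K] V) := Finite.of_injective (fun g : V ≃ₗ[K] V => (g : V → V)) DFunLike.coe_injective
  rcases Nat.lt_or_ge a 2 with h | h
  · obtain rfl : a = 1 := by omega
    exact Cfsg.Agent.H248.K4.not_dvd_degree hM P hPc hY
  set P' := (P : Subgroup F.iso).map F.iso.subtype with hP'
  have hcp : 2 * c ≤ p - 1 := by
    have h1 : ((Nat.card K : ℕ) : ZMod p) ≠ 0 := by
      intro h0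
      rw [h0] at ho
      have h2 : orderOf (0 : ZMod p) = 0 := by
        rw [orderOf_eq_zero_iff']
        intro n hn h3
        rw [zero_pow hn.ne'] at h3
        exact zero_ne_one h3
      omega
    have h4 := ZMod.orderOf_dvd_card_sub_one h1
    rw [ho] at h4
    exact Nat.le_of_dvd (by have := hp.out.two_le; omega) h4
  obtain ⟨D, HD⟩ := exists_twoB hp2 hpK (splF F) (syl_map F.iso P) ha0 hc0 ho ha hdim (by
    rw [← Nat.card_congr ((P : Subgroup F.iso).equivMapOfInjective F.iso.subtype F.iso.subtype_injective).toEquiv]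
    exact hPc)
  have hmem : ∀ {x : F.iso}, (x : V ≃ₗ[K] V) ∈ P' → x ∈ (P : Subgroup F.iso) := by
    rintro x ⟨y, hy, hyx⟩
    rwa [← Subtype.ext hyx]
  have hab : ∀ x ∈ (P : Subgroup F.iso), ∀ y ∈ (P : Subgroup F.iso), x * y = y * x := fun x hx y hy =>
    Subtype.ext (HD.ab _ ⟨x, hx, rfl⟩ _ ⟨y, hy, rfl⟩)
  refine not_dvd_of_fus hM P hab (fun x => (x : V ≃ₗ[K] V) ∈ RegE P') (fun x hx => hmem hx.1) (fun x hx g hg => ?_)
    (fun x hx m hm => ?_) hne hY (fun w x hx hxw => ?_) (m := 8 * c ^ 2) (fun z => ?_) ?_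
  · have hg' := Subgroup.mem_centralizer_singleton_iff.1 hg
    rw [Subgroup.mem_centralizer_iff]
    intro y hy
    exact Subtype.ext (regE_comm hx (congrArg Subtype.val hg') (y := (y : V ≃ₗ[K] V)) ⟨y, hy, rfl⟩).symm
  · obtain ⟨k, hk⟩ := exists_pow_eq_self_of_coprime (x := x) (n := m)
      (hm.coprime_dvd_right (orderOf_dvd_natCard x))
    exact regE_pow hx (k := k) (by
      have := congrArg Subtype.val hk
      simpa using this)
  · refine hv w fun W hW hWw => ?_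
    obtain ⟨n, hn⟩ := PPart.exists_pow_eq (G := F.iso) p
    have h1 : w ^ n = pq p w := hn _ _ (pq_spec w)
    obtain ⟨g, hg⟩ := isConj_iff.1 hxw
    -- `g x g⁻¹ = pq p w`
    have hWn : ∀ k : ℕ, ∀ v ∈ W, ((w ^ k : F.iso) : V ≃ₗ[K] V) v ∈ W := by
      intro k
      induction k with
      | zero => intro v hv; exact hv
      | succ k ih =>
        intro v hv
        rw [pow_succ']
        have h2 : ((w * w ^ k : F.iso) : V ≃ₗ[K] V) v = (w : V ≃ₗ[K] V) (((w ^ k : F.iso) : V ≃ₗ[K] V) v) := rfl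
        rw [h2, ← hWw]
        exact ⟨_, ih v hv, rfl⟩
    set W1 : Submodule K V := W.map (((g⁻¹ : F.iso) : V ≃ₗ[K] V) : V →ₗ[K] V) with hW1
    have hTS : F.TS W1 := hW.1.map g⁻¹
    have hfr : finrank K W1 = 2 * c := by
      rw [hW1, LinearEquiv.finrank_map_eq]
      exact hW.2
    have hx1 : ∀ v ∈ W1, (x : V ≃ₗ[K] V) v ∈ W1 := by
      rintro _ ⟨v, hv, rfl⟩
      have h3 : x * g⁻¹ = g⁻¹ * w ^ n := by
        rw [h1, ← hg]
        group
      have h4 : (x : V ≃ₗ[K] V) (((g⁻¹ : F.iso) : V ≃ₗ[K] V) v) = ((g⁻¹ : F.iso) : V ≃ₗ[K] V) (((w ^ n : F.iso) : V ≃ₗ[K] V) v) :=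
        congrArg (fun s : F.iso => (s : V ≃ₗ[K] V) v) h3
      refine ⟨((w ^ n : F.iso) : V ≃ₗ[K] V) v, hWn n v hv, h4.symm⟩
    exact Cfsg.Agent.H79.HT.no_ts HD (fun y hy v hv => regE_inv hx hx1 hy hv) hTS.2 hfr hdim
  · by_cases hz : ∃ x₀ : F.iso, (x₀ : V ≃ₗ[K] V) ∈ RegE P' ∧ IsConj x₀ z
    · obtain ⟨x₀, hx₀, hc₀⟩ := hz
      refine le_trans ?_ (hfus D HD x₀ hx₀)
      refine Nat.card_le_card_of_injective (fun x : {x : F.iso // (x : V ≃ₗ[K] V) ∈ RegE P' ∧ IsConj x z} =>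
        (⟨(x : F.iso), x.2.1, ?_⟩ : {x' : V ≃ₗ[K] V // x' ∈ RegE P' ∧ ∃ g ∈ F.iso, g * (x₀ : V ≃ₗ[K] V) * g⁻¹ = x'})) ?_
      · obtain ⟨g, hg⟩ := isConj_iff.1 (hc₀.trans x.2.2.symm)
        exact ⟨g, g.2, congrArg Subtype.val hg⟩
      · intro x y hxy
        have := congrArg Subtype.val hxy
        exact Subtype.ext (Subtype.ext this)
    · have : IsEmpty {x : F.iso // (x : V ≃ₗ[K] V) ∈ RegE P' ∧ IsConj x z} := ⟨fun x => hz ⟨x.1, x.2⟩⟩
      rw [Nat.card_of_isEmpty]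
      exact Nat.zero_le _
  · have h1 : Nat.card (RegE P') ≤ Nat.card {x : F.iso // (x : V ≃ₗ[K] V) ∈ RegE P'} := by
      refine Nat.card_le_card_of_injective (fun x : RegE P' =>
        (⟨⟨(x : V ≃ₗ[K] V), HD.syl.le x.2.1⟩, x.2⟩ : {x : F.iso // (x : V ≃ₗ[K] V) ∈ RegE P'})) ?_
      intro x y hxy
      have := congrArg (fun s : {x : F.iso // (x : V ≃ₗ[K] V) ∈ RegE P'} => ((s : F.iso) : V ≃ₗ[K] V)) hxy
      exact Subtype.ext this
    have h2 := (hcnt D HD).trans h1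
    have h3 := arith hc0 hcp h
    rw [hPc]
    have h4 : p ^ (2 * a) = (p ^ a) ^ 2 := by rw [← pow_mul, mul_comm]
    rw [h4]
    exact h3.trans_le (Nat.mul_le_mul_left _ h2)

end Cfsg.Agent.H567.HT
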