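import Cfsg.Agent.H567.HT.Two
import Cfsg.Agent.H168.HT.Cnt
import Cfsg.Agent.H637.HT.Fus

/-!
# S4933, box H2 (helper567, 920, 168, 637, 79)

`not_dvd_of_two`: the height lemma for the isometry group of a form of dimension `< 6c`, `2c = ord_p(q)`.
-/

set_option autoImplicit false

namespace Cfsg.Agent.H567.HT

open Module Cfsg.Agent.H477.HC Cfsg.Agent.H920.HT

universe u v

variable {K : Type u} [Field K] {V : Type v} [AddCommGroup V] [Module K V] {F : CForm K V}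

/-- **S4933, box H2.** `p` odd, `2c = ord_p(q)`, `p ^ (a+1) ∤ q^c + 1`, `dim V < 6c`, `|P| = p ^ (2a)`, `a > 0`: if `Y ∈ B₀`, `Y ≠ Y'`
and `Y + Y'` vanishes at every element which fixes no totally singular `2c`-space, then `p ∤ Y(1)`. -/
theorem not_dvd_of_two [Finite K] [Finite V] [FiniteDimensional K V] {p a c : ℕ} [hp : Fact p.Prime] (hp2 : p ≠ 2)
    (hpK : (p : K) ≠ 0) (hc0 : 0 < c) (ha0 : 0 < a) (ho : orderOf ((Nat.card K : ℕ) : ZMod p) = 2 * c)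
    (ha : ¬ p ^ (a + 1) ∣ Nat.card K ^ c + 1) (hdim : finrank K V < 6 * c) (P : Sylow p F.iso)
    (hPc : Nat.card P = p ^ (2 * a))
    {M : Ideal AlgInt} (hM : IsPModular p M) {Y Y' : IrrCharacter F.iso} (hY : Y ∈ principalBlock M F.iso) (hne : Y ≠ Y')
    (hv : ∀ g : F.iso, (∀ W ∈ F.Om (2 * c), W.map ((g : V ≃ₗ[K] V) : V →ₗ[K] V) ≠ W) →
      (Y : F.iso → ℂ) g + (Y' : F.iso → ℂ) g = 0) :
    ¬ p ∣ charDegree (Y : F.iso → ℂ) :=
  not_dvd_of_two_aux hp2 hpK hc0 ha0 ho ha hdim P hPc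
    (fun _ hD => Cfsg.Agent.H168.HT.card_reg hpK hD hc0)
    (fun _ hD _ hx => Cfsg.Agent.H637.HT.fusion hpK hD hx) hM hY hne hv

/-- the same for both constituents -/
theorem not_dvd_of_two_both [Finite K] [Finite V] [FiniteDimensional K V] {p a c : ℕ} [hp : Fact p.Prime] (hp2 : p ≠ 2)
    (hpK : (p : K) ≠ 0) (hc0 : 0 < c) (ha0 : 0 < a) (ho : orderOf ((Nat.card K : ℕ) : ZMod p) = 2 * c)
    (ha : ¬ p ^ (a + 1) ∣ Nat.card K ^ c + 1) (hdim : finrank K V < 6 * c) (P : Sylow p F.iso)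
    (hPc : Nat.card P = p ^ (2 * a))
    {M : Ideal AlgInt} (hM : IsPModular p M) {Y Y' : IrrCharacter F.iso}
    (hY : Y ∈ principalBlock M F.iso ∨ Y' ∈ principalBlock M F.iso) (hne : Y ≠ Y')
    (hd : p ∣ charDegree (Y : F.iso → ℂ) + charDegree (Y' : F.iso → ℂ))
    (hv : ∀ g : F.iso, (∀ W ∈ F.Om (2 * c), W.map ((g : V ≃ₗ[K] V) : V →ₗ[K] V) ≠ W) →
      (Y : F.iso → ℂ) g + (Y' : F.iso → ℂ) g = 0) :
    ¬ p ∣ charDegree (Y : F.iso → ℂ) ∧ ¬ p ∣ charDegree (Y' : F.iso → ℂ) := by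
  rcases hY with hY | hY
  · have h1 := not_dvd_of_two hp2 hpK hc0 ha0 ho ha hdim P hPc hM hY hne hv
    exact ⟨h1, fun h2 => h1 ((Nat.dvd_add_left h2).1 hd)⟩
  · have h1 := not_dvd_of_two hp2 hpK hc0 ha0 ho ha hdim P hPc hM hY hne.symm
      (fun g hg => by rw [add_comm]; exact hv g hg)
    exact ⟨fun h2 => h1 ((Nat.dvd_add_right h2).1 hd), h1⟩

end Cfsg.Agent.H567.HT
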